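import Mathlib
import Cfsg.Agent.Lib.Helper36.AltEven

/-!
# OPAR (S5989): generic linear algebra for the unipotent derangements (helper47)

`V` a finite-dimensional space with a symmetric bilinear form `B`, `n` an endomorphism with
`n ^ 3 = 0` such that `1 + n` is an isometry.  Then `l := n - n ^ 2 / 2` is skew-adjoint, hence
`n` has EVEN rank on every invariant subspace on which `B` is nondegenerate.
-/

set_option autoImplicit false

namespace Cfsg.Agent.Lib.Helper47.OPar

open Module

universe u v

section abs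

variable {K : Type u} [Field K] {V : Type v} [AddCommGroup V] [Module K V]

/-- the dimension of the trace of `P` on `W` -/
theorem finrank_comap_subtype_eq [FiniteDimensional K V] (W P : Submodule K V) :
    finrank K ↥(P.comap W.subtype) = finrank K ↥(W ⊓ P) := by
  have e : P.comap W.subtype = (W ⊓ P).comap W.subtype := by
    ext ⟨w, hw⟩
    simp
  rw [e]
  exact (Submodule.comapSubtypeEquivOfLe inf_le_left).finrank_eq

/-- rank–nullity for the restriction of a linear map to a subspace -/
theorem finrank_map_add_inf_ker [FiniteDimensional K V] (f : V →ₗ[K] V) (W : Submodule K V) :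
    finrank K ↥(W.map f) + finrank K ↥(W ⊓ LinearMap.ker f) = finrank K ↥W := by
  have h := LinearMap.finrank_range_add_finrank_ker (f.domRestrict W)
  rw [LinearMap.range_domRestrict, LinearMap.ker_domRestrict, finrank_comap_subtype_eq] at h
  exact h

/-- **Even rank.** If `1 + n` is an isometry of the symmetric form `B`, `n ^ 3 = 0` and `2 ≠ 0`,
then `n` has even rank on every `n`-invariant subspace `W` on which `B` is nondegenerate. -/
theorem even_finrank_map_of_isom [FiniteDimensional K V] (h2 : (2 : K) ≠ 0)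
    (B : LinearMap.BilinForm K V) (hsymm : ∀ u v, B u v = B v u) (n : V →ₗ[K] V)
    (hn3 : ∀ v, n (n (n v)) = 0)
    (hiso : ∀ u v, B (u + n u) (v + n v) = B u v)
    (W : Submodule K V) (hW : W.map n ≤ W)
    (hnd : ∀ w ∈ W, w ≠ 0 → ∃ y ∈ W, B y w ≠ 0) :
    Even (finrank K ↥(W.map n)) := by
  have hstar : ∀ u v, B (n u) v + B u (n v) + B (n u) (n v) = 0 := by
    intro u v
    have h := hiso u v
    simp only [map_add, LinearMap.add_apply] at h
    linear_combination h
  have hd : ∀ u v, B (n (n u)) (n v) = 0 := by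
    intro u v
    have h := hstar (n (n u)) v
    rw [hn3] at h
    simpa using h
  have he : ∀ u v, B (n u) (n (n v)) = 0 := by
    intro u v
    rw [hsymm]
    exact hd v u
  have ha : ∀ u v, B u (n (n v)) = - B (n u) (n v) := by
    intro u v
    have h := hstar u (n v)
    rw [he] at h
    linear_combination h
  have hb : ∀ u v, B (n (n u)) v = - B (n u) (n v) := by
    intro u v
    rw [hsymm, ha, hsymm]
  have h22 : (2⁻¹ : K) * 2 = 1 := inv_mul_cancel₀ h2
  -- the skew-adjoint logarithm
  let l : V →ₗ[K] V := n - (2⁻¹ : K) • (n ∘ₗ n)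
  have hl : ∀ u, l u = n u - (2⁻¹ : K) • n (n u) := fun u => rfl
  have hskew : ∀ u v, B (l u) v = - B u (l v) := by
    intro u v
    rw [hl, hl]
    simp only [map_sub, map_smul, LinearMap.sub_apply, LinearMap.smul_apply, smul_eq_mul]
    rw [ha, hb]
    linear_combination hstar u v + B (n u) (n v) * h22
  have hlW : ∀ w ∈ W, l w ∈ W := by
    intro w hw
    have h1 : n w ∈ W := hW (Submodule.mem_map_of_mem hw)
    have h3 : n (n w) ∈ W := hW (Submodule.mem_map_of_mem h1)
    rw [hl]
    exact W.sub_mem h1 (W.smul_mem _ h3)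
  have hl0 : ∀ u, l u = 0 ↔ n u = 0 := by
    intro u
    constructor
    · intro h
      rw [hl, sub_eq_zero] at h
      have h3 : n (n u) = 0 := by
        have := congrArg n h
        rw [map_smul, hn3, smul_zero] at this
        exact this
      rw [h, h3, smul_zero]
    · intro h
      rw [hl, h, map_zero, smul_zero, sub_zero]
  -- the alternating form on `W`
  let lW : W →ₗ[K] W := l.restrict hlW
  let β : LinearMap.BilinForm K W := B.compl₁₂ (W.subtype ∘ₗ lW) W.subtype
  have hβ : ∀ u v : W, β u v = B (l (u : V)) (v : V) := fun u v => rfl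
  have halt : β.IsAlt := by
    intro u
    rw [hβ]
    have h1 : B (l (u : V)) (u : V) = - B (l (u : V)) (u : V) := by
      conv_lhs => rw [hskew, hsymm]
    have h3 : (2 : K) * B (l (u : V)) (u : V) = 0 := by linear_combination h1
    rcases mul_eq_zero.1 h3 with h | h
    · exact absurd h h2
    · exact h
  obtain ⟨k, hk⟩ := Cfsg.Agent.Lib.Helper36.alt_finrank_aux K (finrank K W) W β halt rfl
  have hker : LinearMap.ker β = (LinearMap.ker n).comap W.subtype := by
    ext u
    rw [LinearMap.mem_ker, Submodule.mem_comap, LinearMap.mem_ker, Submodule.subtype_apply,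
      ← hl0]
    constructor
    · intro h
      by_contra hne
      obtain ⟨y, hy, hy'⟩ := hnd (l (u : V)) (hlW _ u.2) hne
      apply hy'
      rw [hsymm]
      have := LinearMap.congr_fun h ⟨y, hy⟩
      rw [hβ] at this
      simpa using this
    · intro h
      ext w
      rw [hβ, h]
      simp
  rw [hker, finrank_comap_subtype_eq] at hk
  have h1 := finrank_map_add_inf_ker n W
  refine ⟨k, ?_⟩
  omega

/-- **Kernel inside the image**, inherited by an invariant direct summand. -/
theorem inf_ker_le_map_of_compl (n : V →ₗ[K] V) (W W' : Submodule K V) (hW : W.map n ≤ W)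
    (hW' : W'.map n ≤ W') (hsup : W ⊔ W' = ⊤) (hdisj : W ⊓ W' = ⊥)
    (hkr : LinearMap.ker n ≤ LinearMap.range n) :
    W ⊓ LinearMap.ker n ≤ W.map n := by
  rintro u ⟨huW, huk⟩
  obtain ⟨v, rfl⟩ := hkr huk
  have hv : v ∈ W ⊔ W' := hsup ▸ Submodule.mem_top
  obtain ⟨w, hw, w', hw', rfl⟩ := Submodule.mem_sup.1 hv
  have h1 : n w' ∈ W ⊓ W' := by
    refine ⟨?_, hW' (Submodule.mem_map_of_mem hw')⟩
    have h : n w' = n (w + w') - n w := by simp
    rw [h]
    exact W.sub_mem huW (hW (Submodule.mem_map_of_mem hw))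
  rw [hdisj, Submodule.mem_bot] at h1
  exact ⟨w, hw, by simp [h1]⟩

/-- **Counting.** -/
theorem mod_four_of_ker_le_map [FiniteDimensional K V] (n : V →ₗ[K] V) (W : Submodule K V)
    (hW : W.map n ≤ W) (hk : W ⊓ LinearMap.ker n ≤ W.map n)
    (hs : finrank K ↥((W.map n).map n) ≤ 2) (hodd : Odd (finrank K ↥W))
    (hev : Even (finrank K ↥(W.map n))) : finrank K ↥W % 4 = 3 := by
  have h1 := finrank_map_add_inf_ker n W
  have h2 := finrank_map_add_inf_ker n (W.map n)
  have h3 : W.map n ⊓ LinearMap.ker n = W ⊓ LinearMap.ker n :=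
    le_antisymm (inf_le_inf_right _ hW) (le_inf hk inf_le_right)
  rw [h3] at h2
  obtain ⟨a, ha⟩ := hodd
  obtain ⟨b, hb⟩ := hev
  omega

/-- **The derangement criterion.**  `1 + n` an isometry, `n ^ 3 = 0`, `ker n ≤ range n`,
`rank n ^ 2 ≤ 2`: an invariant subspace `W` of odd dimension with an invariant complement, on
which the form is nondegenerate, has dimension `≡ 3 (mod 4)`. -/
theorem mod_four_of_isom [FiniteDimensional K V] (h2 : (2 : K) ≠ 0)
    (B : LinearMap.BilinForm K V) (hsymm : ∀ u v, B u v = B v u) (n : V →ₗ[K] V)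
    (hn3 : ∀ v, n (n (n v)) = 0)
    (hiso : ∀ u v, B (u + n u) (v + n v) = B u v)
    (hkr : LinearMap.ker n ≤ LinearMap.range n)
    (hr2 : finrank K ↥(LinearMap.range (n ∘ₗ n)) ≤ 2)
    (W W' : Submodule K V) (hW : W.map n ≤ W) (hW' : W'.map n ≤ W') (hsup : W ⊔ W' = ⊤)
    (hdisj : W ⊓ W' = ⊥)
    (hnd : ∀ w ∈ W, w ≠ 0 → ∃ y ∈ W, B y w ≠ 0) (hodd : Odd (finrank K ↥W)) :
    finrank K ↥W % 4 = 3 := by
  apply mod_four_of_ker_le_map n W hW (inf_ker_le_map_of_compl n W W' hW hW' hsup hdisj hkr) _ hodd
    (even_finrank_map_of_isom h2 B hsymm n hn3 hiso W hW hnd)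
  refine le_trans (Submodule.finrank_mono ?_) hr2
  rintro _ ⟨_, ⟨w, _, rfl⟩, rfl⟩
  exact ⟨w, rfl⟩

end abs

end Cfsg.Agent.Lib.Helper47.OPar
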